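import Cfsg.Agent.Lib.ONanRec.Cand.Exists
import Cfsg.Agent.Lib.ONanRec.Pin
import Cfsg.Agent.Lib.ONanRec.Cover
import Cfsg.Agent.Lib.ONanRec.Endgame

/-!
# The recognition of O'Nan by the centraliser of an involution
-/

set_option autoImplicit false

namespace CfsgLib.ONanRec

/-- A simple group with such a centraliser of an involution is O'Nan. -/
theorem isoON {G : Type*} [Group G] [Finite G] [IsSimpleGroup G] (t : G) (ht : orderOf t = 2)
    (M : Subgroup (Subgroup.centralizer ({t} : Set G))) [M.Normal] (hM : M.index = 2)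
    (hout : Subgroup.centralizer (M : Set (Subgroup.centralizer ({t} : Set G))) ≤ M)
    (hZc : IsCyclic (Subgroup.center M)) (hZ4 : Nat.card (Subgroup.center M) = 4) (hperf : commutator M = ⊤)
    (F : Type) [Field F] [Fintype F] (hF : Fintype.card F = 4)
    (e : M ⧸ Subgroup.center M ≃* Matrix.ProjectiveSpecialLinearGroup (Fin 3) F) : Cfsg.Spor.IsoON G := by
  obtain ⟨k, g, hc⟩ := Cand.exists_centralizer t ht M hM hout hZc hZ4 hperf F hF e
  obtain ⟨P⟩ := exists_pinned hc ht
  exact endgame ht (hasCover P) P.card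

end CfsgLib.ONanRec
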